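import Cfsg.Agent.Cz.MD
import Cfsg.Agent.Cz.M0

/-! Checks for the model of the third Conway group. -/

set_option autoImplicit false
set_option maxRecDepth 1000000

namespace CF.Cz.C3

open CF.Comp CF.Fisch CF.KI.Co3

theorem tT1 : Bt.stdS (lapp X X1) 276 9 c gs gs [] [] tTF tTK tT 2 = true := by decide +kernel
theorem t2 : comOK e gs [a0] = true := by decide +kernel
theorem s4 : memOK e gs hs u1 = true := by decide +kernel
theorem s5 : memOK e hs gs u2 = true := by decide +kernel
theorem s6 : allFrom (cenAt e 2 hs TH) 0 10 = true := by decide +kernel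
theorem s7 : allFrom (cenAt e 2 (ldrop 3 hs) T3) 0 7 = true := by decide +kernel
theorem s8 : (Bool.rec false (allFrom (secAt T3 (0 + 4)) 0 4) (Nat.ble (0 + 4) 7) : Bool) = true := by decide +kernel
theorem tV1 : Bt.stdS (lapp X X1) 276 9 c (ldrop 7 hs) (ldrop 7 hs) [] [] tVF tVK tV 128 = true := by decide +kernel
theorem s9 : comOK e (ldrop 3 hs) (ldrop 7 hs) = true := by decide +kernel
theorem v6 : levOK e hs 6 0 [3] = true := by decide +kernel
theorem v7 : levOK e hs 7 0 [1] = true := by decide +kernel
theorem v8 : levOK e hs 8 0 [] = true := by decide +kernel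
theorem tD1 : Bt.stdS (lapp X X1) 276 9 c (comL gs PD) (comL gs PD) [] [] tDF tDK tD 8 = true := by decide +kernel
theorem d2 : comOK e (cgens cz) (comL gs PD) = true := by decide +kernel
theorem d3 : memOK e (comL gs PD) (cgens cz) uz = true := by decide +kernel
theorem d4 : Bt.geOK (lapp X X1) 276 cz 8 = true := by decide +kernel
theorem tL1 : Bt.stdS (lapp X X1) 276 9 c ks ks [] [] tLF tLK tL 4 = true := by decide +kernel
theorem k2 : comOK e ks (ldrop 8 hs) = true := by decide +kernel
theorem j0k : cj2 e j0 a0 e2 e2 (lapp a0 e2) = true := by decide +kernel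
theorem j1k : cj2 e j1 a0 e2 e3 a0 = true := by decide +kernel
theorem j2k : cj2 e j2 a0 e2 (lapp e3 a0) e2 = true := by decide +kernel
theorem j3k : cj2 e j3 a0 e2 e3 (lapp a0 e2) = true := by decide +kernel
theorem j4 : e e3 e2 = false := by decide +kernel
theorem q0 : e (lapp (lapp (lapp qw qb) qw) qb) (lapp (lapp (lapp qc qd) qc) qd) = true := by decide +kernel
theorem q1k : cj2 e q1 a0 e2 qb qc = true := by decide +kernel
theorem q2k : cj2 e q2 a0 e2 qb qd = true := by decide +kernel
theorem q3k : cj2 e q3 a0 e2 qc qw = true := by decide +kernel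
theorem q4k : cj2 e q4 a0 e2 qd qw = true := by decide +kernel
theorem q5k : cj2 e q5 a0 e2 qc (lapp (lapp (lapp qc qd) qc) qd) = true := by decide +kernel
theorem q6k : cj2 e q6 a0 e2 (lapp qc qw) (lapp (lapp (lapp qc qd) qc) qd) = true := by decide +kernel
theorem q7k : cj2 e q7 a0 e2 (lapp (lapp (lapp qd qc) qw) qb) (lapp qd qw) = true := by decide +kernel
theorem q8k : cj2 e q8 a0 e2 (lapp (lapp (lapp qd qc) qw) qb) (lapp (lapp qc qw) (lapp (lapp (lapp qc qd) qc) qd)) = true := by decide +kernel
theorem p01k : cj2 e p01 qc qd a0 b1 = true := by decide +kernel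
theorem p02k : cj2 e p02 qc qd a0 b2 = true := by decide +kernel
theorem p03k : cj2 e p03 qc qd a0 b3 = true := by decide +kernel
theorem p12k : cj2 e p12 qc qd b1 b2 = true := by decide +kernel
theorem p13k : cj2 e p13 qc qd b1 b3 = true := by decide +kernel
theorem p23k : cj2 e p23 qc qd b2 b3 = true := by decide +kernel
theorem g1 : memOK e [a0, b1, b2, b3] (gensW 2) uA = true := by decide +kernel
theorem x1 : memOK e (a1 :: xs) (cgens a1c) ux = true := by decide +kernel
theorem x2 : comOK e xs [a1] = true := by decide +kernel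
theorem x3 : memOK e (comL xs PX) xs uX = true := by decide +kernel
theorem x4 : famOK (lapp X X1) xs FX = true := by decide +kernel
theorem x5 : famNo (lapp X X1) 276 a1 3938741168900122554824912594271142500347628611610677029725246304066077166932480 FX [9, 0, 3, 0, 9, 17, 12, 11, 0, 11, 0, 9, 5, 0, 3, 11, 3, 18, 9, 3, 5, 3, 3, 11, 11, 0, 11, 9, 9, 5, 11, 11, 11, 13, 3, 0, 0, 9, 5, 0, 3, 11, 3, 11, 0, 3, 3, 11, 0, 5, 5, 0, 0, 11, 11, 3, 5, 0, 3, 11, 13, 0, 3, 37, 11, 11] = true := by decide +kernel
theorem x6 : ordOK e 2 (lapp (subst xs ur) (subst xs ur)) = true := by decide +kernel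
theorem x7 : e (lapp jr a1) (lapp (lapp a1 (lapp (subst xs ur) (subst xs ur))) jr) = true := by decide +kernel

end CF.Cz.C3
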