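import Cfsg.Agent.Cz.SD
import Cfsg.Agent.Cz.S0
import Cfsg.Agent.Known.Q16.Cer
import Cfsg.Agent.Bt.Out.SuzD

/-! Checks for the automorphism group of the sporadic Suzuki group. -/

set_option autoImplicit false
set_option maxRecDepth 1000000

namespace CF.Cz.Sz

open CF.Comp CF.Fisch

theorem h0 : Q16.sqOK (lapp Bt.OutSuz.X Bt.OutSuz.X1) 1782 11 Bt.OutSuz.π v = true := by decide +kernel
theorem h1 : Bt.evsOK (lapp (lapp Bt.OutSuz.X Bt.OutSuz.X1) [Bt.OutSuz.π]) 1782 11 X ws = true := by decide +kernel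
theorem h2 : slpOK (lapp X X1) 1782 11 W 3 = true := by decide +kernel
theorem h3 : Bt.geOK (lapp X X1) 1782 c 896690995200 = true := by decide +kernel
theorem h4 : Bt.geOK (lapp X X1) 1782 cJ 448345497600 = true := by decide +kernel
theorem h5 : lall (wordIn (slpIn W 3 (gensW 2))) (cgens cJ) = true := by decide +kernel
theorem h6 : parOK P W 3 = true := by decide +kernel
theorem h7 : bnd (ordOK e 13 [1]) (ordOK e 11 [3]) = true := by decide +kernel
theorem e1 : sepOK 1782 Ss (lmap Lvl.b c) = true := by decide +kernel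
theorem e2 : Nat.beq R (repl 1782 (llen Ss)) = true := by decide +kernel
theorem e3 : Nat.beq V (pack 1782 Ss) = true := by decide +kernel
theorem s1 : allFrom (cenAt e 2 ss T) 0 14 = true := by decide +kernel
theorem s2 : memOK e ss (cgens cS) uS = true := by decide +kernel
theorem s3 : Bt.geOK (lapp X X1) 1782 cS (2 ^ 14) = true := by decide +kernel
theorem l0 : bnd (blt 0 (llen ss)) (allFrom (entAt e 2 ss ss 0 Y0 Y1 E0) 0 (llen Y0)) = true := by decide +kernel
theorem l1 : bnd (blt 1 (llen ss)) (allFrom (entAt e 2 ss ss 1 Y1 Y2 E1) 0 (llen Y1)) = true := by decide +kernel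
theorem l2 : bnd (blt 2 (llen ss)) (allFrom (entAt e 2 ss ss 2 Y2 Y3 E2) 0 (llen Y2)) = true := by decide +kernel
theorem l3 : bnd (blt 3 (llen ss)) (allFrom (entAt e 2 ss ss 3 Y3 Y4 E3) 0 (llen Y3)) = true := by decide +kernel
theorem l4 : bnd (blt 4 (llen ss)) (allFrom (entAt e 2 ss ss 4 Y4 Y5 E4) 0 (llen Y4)) = true := by decide +kernel
theorem l5 : bnd (blt 5 (llen ss)) (allFrom (entAt e 2 ss ss 5 Y5 Y6 E5) 0 (llen Y5)) = true := by decide +kernel
theorem l6 : bnd (blt 6 (llen ss)) (allFrom (entAt e 2 ss ss 6 Y6 Y7 E6) 0 (llen Y6)) = true := by decide +kernel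
theorem l7 : bnd (blt 7 (llen ss)) (allFrom (entAt e 2 ss ss 7 Y7 Y8 E7) 0 (llen Y7)) = true := by decide +kernel
theorem l8 : bnd (blt 8 (llen ss)) (allFrom (entAt e 2 ss ss 8 Y8 Y9 E8) 0 (llen Y8)) = true := by decide +kernel
theorem l9 : bnd (blt 9 (llen ss)) (allFrom (entAt e 2 ss ss 9 Y9 Y10 E9) 0 (llen Y9)) = true := by decide +kernel
theorem l10 : bnd (blt 10 (llen ss)) (allFrom (entAt e 2 ss ss 10 Y10 Y11 E10) 0 (llen Y10)) = true := by decide +kernel
theorem l11 : bnd (blt 11 (llen ss)) (allFrom (entAt e 2 ss ss 11 Y11 Y12 E11) 0 (llen Y11)) = true := by decide +kernel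
theorem l12 : bnd (blt 12 (llen ss)) (allFrom (entAt e 2 ss ss 12 Y12 Y13 E12) 0 (llen Y12)) = true := by decide +kernel
theorem l13 : bnd (blt 13 (llen ss)) (allFrom (entAt e 2 ss ss 13 Y13 Y14 E13) 0 (llen Y13)) = true := by decide +kernel
theorem fin : finOK e ss Y14 [[], a0, a1, a2, a3] Ts = true := by decide +kernel
theorem t01 : Bt.stdS (lapp X X1) 1782 11 c [a0] [a0] [] [] t0F t0K t0 6635520 = true := by decide +kernel
theorem z1 : lall (fun b => b) [comOK e ([5] :: hs) [a0], evn P hs, evn P gs, comOK e gs [a0], ordOK e 2 a0, par P a2, par P a3, ordOK e 2 a3] = true := by decide +kernel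
theorem z2 : memOK e hs (cgens cH) vH = true := by decide +kernel
theorem z3 : Bt.geOK (lapp X X1) 1782 cH 3317760 = true := by decide +kernel
theorem z4 : memOK e (comL hs PH) hs uH = true := by decide +kernel
theorem z5 : nrmOK e ([5] :: hs) (ldrop 6 gs) nQ = true := by decide +kernel
theorem tQ1 : Bt.stdS (lapp X X1) 1782 11 c (ldrop 6 gs) (ldrop 6 gs) [] [] tQF tQK tQ 2 = true := by decide +kernel
theorem z6 : memOK e (lmap cjw uy) (ldrop 6 gs) wy = true := by decide +kernel
theorem tD1 : Bt.stdS (lapp X X1) 1782 11 c (comL gs PD) (comL gs PD) [] [] tDF tDK tD 4 = true := by decide +kernel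
theorem d2 : comOK e (ldrop 11 gs) (comL gs PD) = true := by decide +kernel
theorem d3 : memOK e (comL gs PD) (ldrop 11 gs) uD = true := by decide +kernel
theorem d4 : levOK e gs 11 1 [] = true := by decide +kernel
theorem x1 : memOK e (ldrop 6 gs) xq u6 = true := by decide +kernel
theorem x2 : memOK e xq (ldrop 6 gs) w6 = true := by decide +kernel
theorem x3 : xsOK e a0 xq = true := by decide +kernel
theorem x4 : Nat.ble (autB e a0 (elsL 2 (ldrop 6 gs)) xq []) 3317760 = true := by decide +kernel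
theorem tL01 : Bt.stdS (lapp X X1) 1782 11 c ks0 ks0 [] [] tL0F tL0K tL0 4 = true := by decide +kernel
theorem k0 : lall (fun b => b) [comOK e ks0 [a0, v0], evn P ks0, ordOK e 2 v0, Bool.not (e a0 v0)] = true := by decide +kernel
theorem r0k : cj3 e P r0 a0 v0 v0 (lapp a0 v0) = true := by decide +kernel
theorem j01k : cj3 e P j01 a0 v0 c0 a0 = true := by decide +kernel
theorem j02k : cj3 e P j02 a0 v1 (lapp c0 a0) v0 = true := by decide +kernel
theorem j03k : cj3 e P j03 a0 v1 c0 (lapp a0 v0) = true := by decide +kernel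
theorem j04 : e c0 v0 = false := by decide +kernel
theorem tL11 : Bt.stdS (lapp X X1) 1782 11 c ks1 ks1 [] [] tL1F tL1K tL1 4 = true := by decide +kernel
theorem k1 : lall (fun b => b) [comOK e ks1 [a0, v1], evn P ks1, ordOK e 2 v1, Bool.not (e a0 v1)] = true := by decide +kernel
theorem r1k : cj3 e P r1 a0 v1 v1 (lapp a0 v1) = true := by decide +kernel
theorem j11k : cj3 e P j11 a0 v0 c1 a0 = true := by decide +kernel
theorem j12k : cj3 e P j12 a0 v0 (lapp c1 a0) v1 = true := by decide +kernel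
theorem j13k : cj3 e P j13 a0 v1 c1 (lapp a0 v1) = true := by decide +kernel
theorem j14 : e c1 v1 = false := by decide +kernel
theorem m1 : bnd (par P mu) (comOK e [mu] [a0, v0]) = true := by decide +kernel
theorem q0 : e (lapp (lapp (lapp qw qb) qw) qb) (lapp (lapp (lapp qc qd) qc) qd) = true := by decide +kernel
theorem q1k : cj3 e P q1 a0 v1 qb qc = true := by decide +kernel
theorem q2k : cj3 e P q2 a0 v1 qb qd = true := by decide +kernel
theorem q3k : cj3 e P q3 a0 v1 qc qw = true := by decide +kernel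
theorem q4k : cj3 e P q4 a0 v1 qd qw = true := by decide +kernel
theorem q5k : cj3 e P q5 a0 v0 qc (lapp (lapp (lapp qc qd) qc) qd) = true := by decide +kernel
theorem q6k : cj3 e P q6 a0 v0 (lapp qc qw) (lapp (lapp (lapp qc qd) qc) qd) = true := by decide +kernel
theorem q7k : cj3 e P q7 a0 v1 (lapp (lapp (lapp qd qc) qw) qb) (lapp qd qw) = true := by decide +kernel
theorem q8k : cj3 e P q8 a0 v1 (lapp (lapp (lapp qd qc) qw) qb) (lapp (lapp qc qw) (lapp (lapp (lapp qc qd) qc) qd)) = true := by decide +kernel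
theorem p01k : cj3 e P p01 qc qd a0 b1 = true := by decide +kernel
theorem p02k : cj3 e P p02 qc qd a0 b2 = true := by decide +kernel
theorem p03k : cj3 e P p03 qc qd a0 b3 = true := by decide +kernel
theorem p04k : cj3 e P p04 qc qd a0 b4 = true := by decide +kernel
theorem p05k : cj3 e P p05 qc qd a0 b5 = true := by decide +kernel
theorem p12k : cj3 e P p12 qc qd b1 b2 = true := by decide +kernel
theorem p13k : cj3 e P p13 qc qd b1 b3 = true := by decide +kernel
theorem p14k : cj3 e P p14 qc qd b1 b4 = true := by decide +kernel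
theorem p15k : cj3 e P p15 qc qd b1 b5 = true := by decide +kernel
theorem p23k : cj3 e P p23 qc qd b2 b3 = true := by decide +kernel
theorem p24k : cj3 e P p24 qc qd b2 b4 = true := by decide +kernel
theorem p25k : cj3 e P p25 qc qd b2 b5 = true := by decide +kernel
theorem p34k : cj3 e P p34 qc qd b3 b4 = true := by decide +kernel
theorem p35k : cj3 e P p35 qc qd b3 b5 = true := by decide +kernel
theorem p45k : cj3 e P p45 qc qd b4 b5 = true := by decide +kernel
theorem g0 : memOK e (ldrop 6 gs) (lmap (fun b => lapp (lapp (lapp a0 b) a0) b) (ldrop 1 As)) uq = true := by decide +kernel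
theorem g1 : memOK e As (gensW 2) uA = true := by decide +kernel
theorem o1t1 : Bt.stdS (lapp X X1) 1782 11 c [a1] [a1] [] [] o1tF o1tK o1t (4 * 80640) = true := by decide +kernel
theorem o12 : lall (fun b => b) [comOK e (o1u :: o1w :: o1y) [a1], evn P (o1j :: o1y), par P o1w, subW o1x o1y,
    subW (o1u :: o1w :: o1y) (lapp (o1u :: o1w :: o1v) (a1 :: o1x)), famOK (lapp X X1) (o1w :: o1y) o1F,
    famNo (lapp X X1) 1782 o1u o1S o1F [5, 2],
    ordOK e 2 (lapp (subst o1x o1r) (subst o1x o1r)), e (lapp o1j a1) (lapp (lapp a1 (lapp (subst o1x o1r) (subst o1x o1r))) o1j),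
    Nat.beq (pop 1782 (Bt.fixS (lapp X X1) 1782 11 a1)) 42] = true := by decide +kernel
theorem o13 : nrmOK e (o1u :: o1w :: o1v) (a1 :: o1x) o1n = true := by decide +kernel
theorem o14 : cmOK e (a1 :: o1x) (o1u :: o1w :: o1v) o1c = true := by decide +kernel
theorem o15 : memOK e (comL o1x Po1) o1x uo1 = true := by decide +kernel
theorem o16 : memOK e o1y (cgens o1C) o1U = true := by decide +kernel
theorem o17 : Bt.geOK (lapp X X1) 1782 o1C 80640 = true := by decide +kernel
theorem o18 : allFrom (cenAt e 2 o1p o1T) 0 8 = true := by decide +kernel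
theorem o19 : memOK e o1p (cgens o1D) o1V = true := by decide +kernel
theorem o110 : Bt.geOK (lapp X X1) 1782 o1D (2 ^ 8) = true := by decide +kernel
theorem o111 : memOK e o1y o1p o1P = true := by decide +kernel
theorem o112 : sqNo (lapp X X1) 1782 11 o1p 42 = true := by decide +kernel
theorem o2t1 : Bt.stdS (lapp X X1) 1782 11 c [a2] [a2] [] [] o2tF o2tK o2t (4 * 604800) = true := by decide +kernel
theorem o22 : lall (fun b => b) [comOK e (o2u :: o2w :: o2y) [a2], evn P (o2j :: o2y), par P o2w, subW o2x o2y,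
    subW (o2u :: o2w :: o2y) (lapp (o2u :: o2w :: o2v) (a2 :: o2x)), famOK (lapp X X1) (o2w :: o2y) o2F,
    famNo (lapp X X1) 1782 o2u o2S o2F [1235],
    ordOK e 2 (lapp (subst o2x o2r) (subst o2x o2r)), e (lapp o2j a2) (lapp (lapp a2 (lapp (subst o2x o2r) (subst o2x o2r))) o2j),
    Nat.beq (pop 1782 (Bt.fixS (lapp X X1) 1782 11 a1)) 42] = true := by decide +kernel
theorem o23 : nrmOK e (o2u :: o2w :: o2v) (a2 :: o2x) o2n = true := by decide +kernel
theorem o24 : cmOK e (a2 :: o2x) (o2u :: o2w :: o2v) o2c = true := by decide +kernel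
theorem o25 : memOK e (comL o2x Po2) o2x uo2 = true := by decide +kernel
theorem o26 : memOK e o2y (cgens o2C) o2U = true := by decide +kernel
theorem o27 : Bt.geOK (lapp X X1) 1782 o2C 604800 = true := by decide +kernel
theorem o28 : allFrom (cenAt e 2 o2p o2T) 0 7 = true := by decide +kernel
theorem o29 : memOK e o2p (cgens o2D) o2V = true := by decide +kernel
theorem o210 : Bt.geOK (lapp X X1) 1782 o2D (2 ^ 7) = true := by decide +kernel
theorem o211 : memOK e o2y o2p o2P = true := by decide +kernel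
theorem o212 : sqNo (lapp X X1) 1782 11 o2p 42 = true := by decide +kernel
theorem o3t1 : Bt.stdS (lapp X X1) 1782 11 c [a3] [a3] [] [] o3tF o3tK o3t (4 * 95040) = true := by decide +kernel
theorem o32 : lall (fun b => b) [comOK e (o3u :: o3w :: o3y) [a3], evn P (o3j :: o3y), par P o3w, subW o3x o3y,
    subW (o3u :: o3w :: o3y) (lapp (o3u :: o3w :: o3v) (a3 :: o3x)), famOK (lapp X X1) (o3w :: o3y) o3F,
    famNo (lapp X X1) 1782 o3u o3S o3F [20, 20, 20, 20, 5, 20, 20, 14, 20, 5, 20, 4, 20, 5, 20, 20, 8, 14, 20, 8, 20, 32, 6, 23, 6, 4, 20, 4, 20, 20, 0, 20, 8, 6, 20, 20, 20, 20, 4, 20, 20, 20, 0, 5, 8, 14, 0, 20, 20, 20, 20, 20, 22, 0, 6, 0, 20, 20, 20, 20, 0, 24, 34, 4, 14, 20],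
    ordOK e 2 (lapp (subst o3x o3r) (subst o3x o3r)), e (lapp o3j a3) (lapp (lapp a3 (lapp (subst o3x o3r) (subst o3x o3r))) o3j),
    Nat.beq (pop 1782 (Bt.fixS (lapp X X1) 1782 11 a1)) 42] = true := by decide +kernel
theorem o33 : nrmOK e (o3u :: o3w :: o3v) (a3 :: o3x) o3n = true := by decide +kernel
theorem o34 : cmOK e (a3 :: o3x) (o3u :: o3w :: o3v) o3c = true := by decide +kernel
theorem o35 : memOK e (comL o3x Po3) o3x uo3 = true := by decide +kernel
theorem o36 : memOK e o3y (cgens o3C) o3U = true := by decide +kernel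
theorem o37 : Bt.geOK (lapp X X1) 1782 o3C 95040 = true := by decide +kernel
theorem o38 : allFrom (cenAt e 2 o3p o3T) 0 6 = true := by decide +kernel
theorem o39 : memOK e o3p (cgens o3D) o3V = true := by decide +kernel
theorem o310 : Bt.geOK (lapp X X1) 1782 o3D (2 ^ 6) = true := by decide +kernel
theorem o311 : memOK e o3y o3p o3P = true := by decide +kernel
theorem o312 : sqNo (lapp X X1) 1782 11 o3p 42 = true := by decide +kernel

end CF.Cz.Sz
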